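import Mathlib
import Cfsg.Agent.H65.Disp.Rgd
import Cfsg.Agent.KFacts.RgdCharP

/-!
# The square of a bipartite Coxeter element is reduced (helper255, S3831)

* `length_sq_of` : `w = w_E w_O`, `E`, `O` the two classes of a bipartite Dynkin diagram, not of type `A₁`, `A₂`:
  `ℓ(w²) = 2 ℓ(w)`;
* `exists_inv_conn` : an automorphism of order three of a group with such a root group datum, acting trivially on the
  diagram, normalises a nontrivial `p`-subgroup.
-/

set_option autoImplicit false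
set_option linter.unusedSectionVars false

namespace Cfsg.Agent.H255.SN

open Cfsg CoxeterSystem Cfsg.Agent.ChevalleyStructure.CoxeterGeom Cfsg.Agent.Tits.Roots Cfsg.Agent.Tits.Core
  Cfsg.Agent.Nodes.Reps Cfsg.Agent.Nodes.BNOf Cfsg.Agent.Nodes.StabComb Cfsg.Agent.Nodes.Bruhat
  Cfsg.Agent.Nodes.LeviDec

section Len

variable {I W : Type*} [Fintype I] [DecidableEq I] [Group W] {M : CoxeterMatrix I}
  (cs : CoxeterSystem M W) {A : I → I → ℤ} (h : IsCartan M A)

theorem rep_cons (i : I) (ω : List I) (v : I → ℤ) :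
    rep cs h (cs.wordProd (i :: ω)) v =
      rep cs h (cs.wordProd ω) v - Pi.single i (pairing A i (rep cs h (cs.wordProd ω) v)) := by
  rw [wordProd_cons, rep_mul_apply, rep_simple, refl_apply]

/-- the coordinates outside of the word do not change -/
theorem rep_word_out (ω : List I) {o : I} (ho : o ∉ ω) (v : I → ℤ) : rep cs h (cs.wordProd ω) v o = v o := by
  induction ω with
  | nil => rw [wordProd_nil, map_one, Module.End.one_apply]
  | cons i ω ih =>
    have h1 : o ≠ i := fun e => ho (by rw [e]; exact List.mem_cons_self)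
    rw [rep_cons, Pi.sub_apply, Pi.single_eq_of_ne h1, sub_zero, ih fun h2 => ho (List.mem_cons_of_mem _ h2)]

theorem pairing_word (ω : List I) {i : I} (hi : ∀ j ∈ ω, A i j = 0) (v : I → ℤ) :
    pairing A i (rep cs h (cs.wordProd ω) v) = pairing A i v := by
  induction ω with
  | nil => rw [wordProd_nil, map_one, Module.End.one_apply]
  | cons j ω ih =>
    rw [rep_cons, sub_eq_add_neg, pairing_add, ← Pi.single_neg, pairing_single, hi j List.mem_cons_self, zero_mul,
      add_zero, ih fun k hk => hi k (List.mem_cons_of_mem _ hk)]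

/-- the coordinates in a word of commuting reflections -/
theorem rep_word_in (ω : List I) (hnd : ω.Nodup) (hc : ∀ i ∈ ω, ∀ j ∈ ω, i ≠ j → A i j = 0) {o : I} (ho : o ∈ ω)
    (v : I → ℤ) : rep cs h (cs.wordProd ω) v o = v o - pairing A o v := by
  induction ω with
  | nil => simp at ho
  | cons i ω ih =>
    rw [List.nodup_cons] at hnd
    rw [rep_cons, Pi.sub_apply]
    by_cases h1 : o = i
    · subst h1
      rw [Pi.single_eq_same, rep_word_out cs h ω hnd.1, pairing_word cs h ω]
      intro j hj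
      exact hc o List.mem_cons_self j (List.mem_cons_of_mem _ hj) (fun e => hnd.1 (e ▸ hj))
    · rw [Pi.single_eq_of_ne h1, sub_zero]
      refine ih hnd.2 (fun a ha b hb => hc a (List.mem_cons_of_mem _ ha) b (List.mem_cons_of_mem _ hb)) ?_
      rcases List.mem_cons.1 ho with h2 | h2
      · exact absurd h2 h1
      · exact h2

/-- a word commuting with `s_e` -/
theorem rep_word_fix (ω : List I) {e : I} (he : ∀ j ∈ ω, A j e = 0) :
    rep cs h (cs.wordProd ω) (Pi.single e 1) = Pi.single e 1 := by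
  induction ω with
  | nil => rw [wordProd_nil, map_one, Module.End.one_apply]
  | cons j ω ih =>
    rw [rep_cons, ih fun k hk => he k (List.mem_cons_of_mem _ hk), pairing_single, he j List.mem_cons_self, zero_mul,
      Pi.single_zero, sub_zero]

theorem nonneg_of_pos (w : W) (i o : I) (ho : 0 < rep cs h w (Pi.single i 1) o) :
    0 ≤ rep cs h w (Pi.single i 1) := by
  rcases nonneg_or_nonpos cs h w i with h1 | h1
  · exact h1
  · exact absurd ho (not_lt.2 (h1 o))

/-- lengths of products with a word -/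
theorem length_append (w : W) (ω : List I)
    (hw : ∀ ω₁ i ω₂, ω = ω₁ ++ i :: ω₂ → 0 ≤ rep cs h (w * cs.wordProd ω₁) (Pi.single i 1)) :
    cs.length (w * cs.wordProd ω) = cs.length w + ω.length := by
  induction ω using List.reverseRecOn with
  | nil => rw [wordProd_nil, mul_one, List.length_nil, add_zero]
  | append_singleton ω i ih =>
    have h1 := ih fun ω₁ j ω₂ e => hw ω₁ j (ω₂ ++ [i]) (by rw [e]; simp)
    have h2 := (lt_iff' cs h (w * cs.wordProd ω) i).2 (hw ω i [] rfl)
    have h3 := cs.length_mul_simple (w * cs.wordProd ω) i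
    rw [wordProd_append, wordProd_singleton, ← mul_assoc, List.length_append, List.length_singleton]
    omega

theorem le_zero (h : IsCartan M A) {i j : I} (hij : i ≠ j) : A i j ≤ 0 := by
  rcases h.rel i j hij with h1 | h1 | h1 | h1
  · omega
  · omega
  · omega
  · omega

theorem mul_nonneg' (h : IsCartan M A) {i j k : I} (hij : i ≠ j) (hjk : j ≠ k) : 0 ≤ A i j * A j k :=
  mul_nonneg_of_nonpos_of_nonpos (le_zero h hij) (le_zero h hjk)

theorem symm_zero (h : IsCartan M A) {i j : I} (hij : i ≠ j) (h0 : A i j = 0) : A j i = 0 := by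
  rcases h.rel i j hij with h1 | h1 | h1 | h1
  · omega
  · omega
  · omega
  · omega

theorem one_le (h : IsCartan M A) {i j k : I} (hij : i ≠ j) (hjk : j ≠ k) (h1 : A i j ≠ 0) (h2 : A j k ≠ 0) :
    1 ≤ A i j * A j k := by
  have h3 : 0 ≤ A i j * A j k := mul_nonneg' h hij hjk
  have h4 : A i j * A j k ≠ 0 := mul_ne_zero h1 h2
  omega

variable {E O : List I} (hE : E.Nodup) (hO : O.Nodup) (hEO : ∀ e ∈ E, e ∉ O)
  (hEE : ∀ i ∈ E, ∀ j ∈ E, i ≠ j → A i j = 0) (hOO : ∀ i ∈ O, ∀ j ∈ O, i ≠ j → A i j = 0)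

include h hE hO hEO hEE hOO

/-- the pairing with the image of `α_o` -/
theorem pairing_EO {o o' : I} (ho : o ∈ O) (ho' : o' ∈ O) :
    rep cs h (cs.wordProd E) (rep cs h (cs.wordProd O) (rep cs h (cs.wordProd E) (Pi.single o 1))) o' =
      (if o' = o then -1 else 0) + ∑ e ∈ E.toFinset, A o' e * A e o := by
  have hoE : o ∉ E := fun h1 => hEO o h1 ho
  have hoE' : o' ∉ E := fun h1 => hEO o' h1 ho'
  rw [rep_word_out cs h E hoE', rep_word_in cs h O hO hOO ho', rep_word_out cs h E hoE']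
  have hu : ∀ k, rep cs h (cs.wordProd E) (Pi.single o 1) k =
      (if k = o then 1 else 0) + (if k ∈ E then - A k o else 0) := by
    intro k
    by_cases hk : k ∈ E
    · have hko : k ≠ o := fun e => hoE (e ▸ hk)
      rw [rep_word_in cs h E hE hEE hk, if_neg hko, if_pos hk, pairing_single, Pi.single_eq_of_ne hko]
      ring
    · rw [rep_word_out cs h E hk, if_neg hk, add_zero, Pi.single_apply]
  have h1 : pairing A o' (rep cs h (cs.wordProd E) (Pi.single o 1)) =
      A o' o - ∑ e ∈ E.toFinset, A o' e * A e o := by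
    unfold pairing
    simp only [hu, mul_add, Finset.sum_add_distrib, mul_ite, mul_one, mul_zero, Finset.sum_ite_eq', Finset.mem_univ,
      if_true]
    rw [sub_eq_add_neg, ← Finset.sum_neg_distrib]
    congr 1
    rw [← Finset.sum_filter]
    refine Finset.sum_congr ?_ fun e _ => by ring
    ext e
    simp
  rw [h1, Pi.single_apply]
  by_cases e : o' = o
  · subst e
    rw [if_pos rfl, if_pos rfl, h.diag]
    ring
  · rw [if_neg e, if_neg e, hOO o' ho' o ho e]
    ring

/-- **`ℓ(w²) = 2 ℓ(w)`** -/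
theorem length_sq_aux (h1 : ∀ e ∈ E, ∃ o ∈ O, A o e ≠ 0)
    (h2 : ∀ o ∈ O, (∃ e ∈ E, 2 ≤ A o e * A e o) ∨ (∃ e ∈ E, ∃ e' ∈ E, e ≠ e' ∧ A o e ≠ 0 ∧ A o e' ≠ 0) ∨
      ∃ e ∈ E, ∃ o' ∈ O, o' ≠ o ∧ A e o ≠ 0 ∧ A o' e ≠ 0) :
    cs.length (cs.wordProd (E ++ O)) = E.length + O.length ∧
      cs.length (cs.wordProd (E ++ O) * cs.wordProd (E ++ O)) = 2 * (E.length + O.length) := by
  have hmem : ∀ {ω ω₁ ω₂ : List I} {i : I}, ω = ω₁ ++ i :: ω₂ → i ∈ ω ∧ ∀ j ∈ ω₁, j ∈ ω := by
    rintro ω ω₁ ω₂ i rfl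
    exact ⟨by simp, fun j hj => by simp [hj]⟩
  have hfix : ∀ {ω ω₁ ω₂ : List I} {i : I}, ω.Nodup → (∀ i ∈ ω, ∀ j ∈ ω, i ≠ j → A i j = 0) → ω = ω₁ ++ i :: ω₂ →
      rep cs h (cs.wordProd ω₁) (Pi.single i 1) = Pi.single i 1 := by
    intro ω ω₁ ω₂ i hnd hc e
    obtain ⟨h3, h4⟩ := hmem e
    refine rep_word_fix cs h ω₁ fun j hj => hc j (h4 j hj) i h3 ?_
    rintro rfl
    rw [e, List.nodup_append] at hnd
    exact hnd.2.2 j hj j List.mem_cons_self rfl
  have e1 : cs.length (1 * cs.wordProd E) = cs.length 1 + E.length := by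
    refine length_append cs h 1 E fun ω₁ i ω₂ e => ?_
    rw [one_mul, hfix hE hEE e]
    exact Pi.single_nonneg.2 zero_le_one
  rw [one_mul, cs.length_one, zero_add] at e1
  have e2 : cs.length (cs.wordProd E * cs.wordProd O) = cs.length (cs.wordProd E) + O.length := by
    refine length_append cs h _ O fun ω₁ i ω₂ e => nonneg_of_pos cs h _ _ i ?_
    rw [rep_mul_apply, hfix hO hOO e, rep_word_out cs h E (fun h3 => hEO i h3 (hmem e).1), Pi.single_eq_same]
    exact one_pos
  have e3 : cs.length (cs.wordProd E * cs.wordProd O * cs.wordProd E) =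
      cs.length (cs.wordProd E * cs.wordProd O) + E.length := by
    refine length_append cs h _ E fun ω₁ i ω₂ e => ?_
    obtain ⟨o, ho, hoe⟩ := h1 i (hmem e).1
    refine nonneg_of_pos cs h _ _ o ?_
    have hoi : o ≠ i := fun e' => hEO i (hmem e).1 (e' ▸ ho)
    rw [rep_mul_apply, hfix hE hEE e, rep_mul_apply, rep_word_out cs h E (fun h3 => hEO o h3 ho),
      rep_word_in cs h O hO hOO ho, pairing_single, Pi.single_eq_of_ne hoi]
    have := le_zero h hoi
    omega
  have e4 : cs.length (cs.wordProd E * cs.wordProd O * cs.wordProd E * cs.wordProd O) =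
      cs.length (cs.wordProd E * cs.wordProd O * cs.wordProd E) + O.length := by
    refine length_append cs h _ O fun ω₁ o ω₂ e => ?_
    have ho := (hmem e).1
    have key : ∀ o' ∈ O, 0 < (if o' = o then (-1 : ℤ) else 0) + ∑ e ∈ E.toFinset, A o' e * A e o →
        0 ≤ rep cs h (cs.wordProd E * cs.wordProd O * cs.wordProd E * cs.wordProd ω₁) (Pi.single o 1) := by
      intro o' ho' hp
      refine nonneg_of_pos cs h _ _ o' ?_
      rw [rep_mul_apply, hfix hO hOO e, rep_mul_apply, rep_mul_apply, pairing_EO cs h hE hO hEO hEE hOO ho ho']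
      exact hp
    have hne : ∀ {e o : I}, e ∈ E → o ∈ O → o ≠ e := fun he ho e' => hEO _ he (e' ▸ ho)
    have hnn : ∀ o' ∈ O, ∀ e ∈ E.toFinset, 0 ≤ A o' e * A e o := fun o' ho' e he =>
      mul_nonneg' h (hne (List.mem_toFinset.1 he) ho') (hne (List.mem_toFinset.1 he) ho).symm
    rcases h2 o ho with ⟨e, he, h3⟩ | ⟨e, he, e', he', hee, h3, h4⟩ | ⟨e, he, o', ho', hoo, h3, h4⟩
    · refine key o ho ?_
      rw [if_pos rfl]
      have h4 := Finset.single_le_sum (hnn o ho) (List.mem_toFinset.2 he)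
      omega
    · refine key o ho ?_
      rw [if_pos rfl]
      have h5 : ∑ k ∈ ({e, e'} : Finset I), A o k * A k o ≤ ∑ k ∈ E.toFinset, A o k * A k o := by
        refine Finset.sum_le_sum_of_subset_of_nonneg ?_ fun k hk _ => hnn o ho k hk
        intro k hk
        rw [Finset.mem_insert, Finset.mem_singleton] at hk
        rcases hk with rfl | rfl
        · exact List.mem_toFinset.2 he
        · exact List.mem_toFinset.2 he'
      rw [Finset.sum_pair hee] at h5
      have h6 := one_le h (hne he ho) (hne he ho).symm h3 (fun h0 => h3 (symm_zero h (hne he ho).symm h0))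
      have h7 := one_le h (hne he' ho) (hne he' ho).symm h4 (fun h0 => h4 (symm_zero h (hne he' ho).symm h0))
      omega
    · refine key o' ho' ?_
      rw [if_neg hoo]
      have h5 := Finset.single_le_sum (hnn o' ho') (List.mem_toFinset.2 he)
      have h6 := one_le h (hne he ho') (hne he ho).symm h4 h3
      omega
  rw [wordProd_append]
  refine ⟨by rw [e2, e1], ?_⟩
  rw [← mul_assoc, e4, e3, e2, e1]
  ring

end Len

section Conn

variable {I W : Type*} [Fintype I] [DecidableEq I] [Group W] {M : CoxeterMatrix I}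
  (cs : CoxeterSystem M W) {A : I → I → ℤ} (h : IsCartan M A)
include h

/-- a bipartite connected diagram which is not of type `A₁`, `A₂` has a word `ω` with `ℓ(ω²) = 2 ℓ(ω)` -/
theorem exists_word (hconn : KFacts.RgdCharP.Conn M) (col : I → Bool)
    (hcol : ∀ i j, i ≠ j → M i j ≠ 2 → col i ≠ col j) (h1 : ∀ i : I, ∃ j, j ≠ i)
    (hA2 : ∀ i j : I, i ≠ j → A i j * A j i = 1 → ∃ k, k ≠ i ∧ k ≠ j) [Nonempty I] :
    ∃ ω : List I, ω.Nodup ∧ (∀ i, i ∈ ω) ∧
      cs.length (cs.wordProd ω * cs.wordProd ω) = cs.length (cs.wordProd ω) + cs.length (cs.wordProd ω) ∧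
      cs.wordProd ω * cs.wordProd ω * cs.wordProd ω ≠ 1 := by
  classical
  set E := (Finset.univ.filter fun i => col i = false).toList with hE
  set O := (Finset.univ.filter fun i => col i = true).toList with hO
  have mE : ∀ {i}, i ∈ E ↔ col i = false := by intro i; simp [hE]
  have mO : ∀ {i}, i ∈ O ↔ col i = true := by intro i; simp [hO]
  have nE : E.Nodup := Finset.nodup_toList _
  have nO : O.Nodup := Finset.nodup_toList _
  have hd : ∀ e ∈ E, e ∉ O := by
    intro e he ho
    rw [mE] at he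
    rw [mO, he] at ho
    exact Bool.false_ne_true ho
  have hz : ∀ {i j : I}, i ≠ j → (A i j = 0 ↔ M i j = 2) := by
    intro i j hij
    rcases h.rel i j hij with h3 | h3 | h3 | h3
    · exact ⟨fun _ => h3.1, fun _ => h3.2.1⟩
    · exact ⟨fun h4 => by omega, fun h4 => by omega⟩
    · exact ⟨fun h4 => by omega, fun h4 => by omega⟩
    · exact ⟨fun h4 => by omega, fun h4 => by omega⟩
  have hcc : ∀ {i j : I}, i ≠ j → col i = col j → A i j = 0 := by
    intro i j hij hc
    rw [hz hij]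
    by_contra h3
    exact hcol i j hij h3 hc
  have hadj : ∀ {i j : I}, i ≠ j → A i j ≠ 0 → col i ≠ col j := fun hij h3 h4 => h3 (hcc hij h4)
  have hside : ∀ {i j : I}, i ≠ j → A i j ≠ 0 → (i ∈ O → j ∈ E) ∧ (i ∈ E → j ∈ O) := by
    intro i j hij h3
    have h4 := hadj hij h3
    rw [mE, mO, mE, mO]
    constructor
    · intro h5
      rw [h5] at h4
      cases hj : col j
      · rfl
      · exact absurd hj.symm h4
    · intro h5
      rw [h5] at h4
      cases hj : col j
      · exact absurd hj.symm h4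
      · rfl
  have hsy : ∀ {i j : I}, i ≠ j → A i j ≠ 0 → A j i ≠ 0 := fun hij h3 h4 => h3 (symm_zero h hij.symm h4)
  have hnb : ∀ i : I, ∃ j, j ≠ i ∧ A i j ≠ 0 := by
    intro i
    obtain ⟨k, hk⟩ := h1 i
    obtain ⟨a, ha, b, hb, hab⟩ := hconn {i} (Set.singleton_nonempty i)
      (fun e => hk (by have : k ∈ ({i} : Set I) := by rw [e]; trivial
                       exact this))
    rw [Set.mem_singleton_iff] at ha
    subst ha
    have hba : b ≠ a := fun e => hb (by rw [e]; rfl)
    exact ⟨b, hba, fun h3 => hab ((hz hba.symm).1 h3)⟩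
  have c1 : ∀ e ∈ E, ∃ o ∈ O, A o e ≠ 0 := by
    intro e he
    obtain ⟨o, h3, h4⟩ := hnb e
    exact ⟨o, (hside h3.symm h4).2 he, hsy h3.symm h4⟩
  have c2 : ∀ o ∈ O, (∃ e ∈ E, 2 ≤ A o e * A e o) ∨ (∃ e ∈ E, ∃ e' ∈ E, e ≠ e' ∧ A o e ≠ 0 ∧ A o e' ≠ 0) ∨
      ∃ e ∈ E, ∃ o' ∈ O, o' ≠ o ∧ A e o ≠ 0 ∧ A o' e ≠ 0 := by
    intro o ho
    obtain ⟨e, h3, h4⟩ := hnb o
    have he := (hside h3.symm h4).1 ho
    by_cases h5 : 2 ≤ A o e * A e o
    · exact Or.inl ⟨e, he, h5⟩
    · have h6 := one_le h h3.symm h3 h4 (hsy h3.symm h4)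
      obtain ⟨k, hk1, hk2⟩ := hA2 o e h3.symm (by omega)
      obtain ⟨a, ha, b, hb, hab⟩ := hconn {o, e} ⟨o, Or.inl rfl⟩ (fun e' => by
        have : k ∈ ({o, e} : Set I) := by rw [e']; trivial
        rcases this with h7 | h7
        · exact hk1 h7
        · exact hk2 h7)
      have hba : b ≠ a := fun e' => hb (e' ▸ ha)
      have hA : A a b ≠ 0 := fun h7 => hab ((hz hba.symm).1 h7)
      rcases ha with rfl | ha
      · refine Or.inr (Or.inl ⟨e, he, b, (hside hba.symm hA).1 ho, ?_, h4, hA⟩)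
        rintro rfl
        exact hb (Or.inr rfl)
      · rw [Set.mem_singleton_iff] at ha
        subst ha
        refine Or.inr (Or.inr ⟨a, he, b, (hside hba.symm hA).2 he, ?_, hsy h3.symm h4, hsy hba.symm hA⟩)
        rintro rfl
        exact hb (Or.inl rfl)
  obtain ⟨l1, l2⟩ := length_sq_aux cs h nE nO hd (fun i hi j hj hij => hcc hij (by rw [mE.1 hi, mE.1 hj]))
    (fun i hi j hj hij => hcc hij (by rw [mO.1 hi, mO.1 hj])) c1 c2
  have hall : ∀ i, i ∈ E ++ O := by
    intro i
    rw [List.mem_append, mE, mO]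
    cases col i
    · exact Or.inl rfl
    · exact Or.inr rfl
  refine ⟨E ++ O, List.nodup_append.2 ⟨nE, nO, ?_⟩, hall, by rw [l2, l1]; ring, ?_⟩
  · rintro a ha b hb rfl
    exact hd a ha hb
  · intro h3
    have h4 : cs.wordProd (E ++ O) * cs.wordProd (E ++ O) = (cs.wordProd (E ++ O))⁻¹ := eq_inv_of_mul_eq_one_left h3
    have h5 := congrArg cs.length h4
    rw [cs.length_inv, l1, l2] at h5
    obtain ⟨i⟩ := (inferInstance : Nonempty I)
    have h6 : 0 < (E ++ O).length := List.length_pos_of_mem (hall i)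
    rw [List.length_append] at h6
    omega

end Conn

section Fix

open Cfsg.Agent.KFacts.RgdAut Cfsg.Agent.KFacts.RgdDiag

variable {I W Y : Type*} [Fintype I] [DecidableEq I] [Group W] [Group Y] {M : CoxeterMatrix I}
  {cs : CoxeterSystem M W} {A : I → I → ℤ} {h : IsCartan M A} {r : ℕ} {T : Subgroup Y} {n : I → Y}
  {X : (I → ℤ) → Subgroup Y}

/-- **An automorphism of order three of a group with a connected bipartite root group datum not of type `A₁`, `A₂`.** -/
theorem exists_inv_conn (R : RGD cs h r T n X) [Finite W] [Finite Y] [Fact r.Prime] [Nonempty I]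
    (hG : GG cs h T X = ⊤) (hconn : KFacts.RgdCharP.Conn M) (col : I → Bool)
    (hcol : ∀ i j, i ≠ j → M i j ≠ 2 → col i ≠ col j) (h1 : ∀ i : I, ∃ j, j ≠ i)
    (hA2 : ∀ i j : I, i ≠ j → A i j * A j i = 1 → ∃ k, k ≠ i ∧ k ≠ j) {a : Y} {β : MulAut Y}
    (hU : Fix β (RGD.Sup X (RGD.Pos cs h))) (D : Diag T X β 1) (hx : (MulAut.conj a * β) ^ 3 = 1) :
    ∃ V : Subgroup Y, V ≠ ⊥ ∧ IsPGroup r V ∧ ∀ v ∈ V, (MulAut.conj a * β) v ∈ V := by
  obtain ⟨ω, h2, h3, h4, h5⟩ := exists_word cs h hconn col hcol h1 hA2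
  exact H65.Disp.Rgd.exists_inv_of_type R hG h2 h3 h4 h5 hU D hx

end Fix

end Cfsg.Agent.H255.SN
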